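import Mathlib
import Cfsg.Agent.H644.KGV.Defs
import Cfsg.Agent.Characters.Core
import Cfsg.Agent.Characters.GaloisBasic
set_option linter.all false

/-!
# Multisets of eigenvalues of group elements for characters

* `multiset_ext_pow`: a multiset of complex numbers is determined by its power sums;
* `isEig_unique`, `isEig_eig_eq`, `exists_isEig`, `eig_spec`, `eig_eq`, `eig_congr`;
* `eig_comp`, `eig_restrict`, `eig_add`, `eig_sum`, `eig_linear`, `eig_pow`, `card_eig`,
  `eig_map_pow` (Frobenius invariance), `eig_conj`, `eig_one`, `pow_card_of_mem_eig`;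
* `kap_add`, `kap_sum`, `kap_comp`, `kap_conj`, `kap_one`, `kap_linear`.
-/

set_option autoImplicit false

namespace Cfsg.Agent.H500.KGV

open Cfsg Finset Polynomial Cfsg.Agent.H644.KGV Cfsg.Agent.Characters

/-- Equal power sums give equal sums of the values of a polynomial. -/
theorem sum_map_eval_eq {M M' : Multiset ℂ}
    (h : ∀ i : ℕ, (M.map fun z => z ^ i).sum = (M'.map fun z => z ^ i).sum) (P : ℂ[X]) :
    (M.map fun z => P.eval z).sum = (M'.map fun z => P.eval z).sum := by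
  induction P using Polynomial.induction_on' with
  | add p q hp hq => simp only [eval_add, Multiset.sum_map_add, hp, hq]
  | monomial n a => simp only [eval_monomial, Multiset.sum_map_mul_left, h]

/-- If `f` vanishes at the elements of `M` different from `z`, then the sum of the values of `f`
is `count z M * f z`. -/
theorem sum_map_eq_count_mul {M : Multiset ℂ} (f : ℂ → ℂ) (z : ℂ)
    (h : ∀ w ∈ M, w ≠ z → f w = 0) : (M.map f).sum = (M.count z : ℂ) * f z := by
  induction M using Multiset.induction_on with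
  | empty => simp
  | cons a s ih =>
    rw [Multiset.map_cons, Multiset.sum_cons, ih fun w hw => h w (Multiset.mem_cons_of_mem hw),
      Multiset.count_cons]
    by_cases ha : z = a
    · subst ha
      simp
      ring
    · rw [h a (Multiset.mem_cons_self a s) (fun e => ha e.symm)]
      simp [ha]

/-- A multiset of complex numbers is determined by its power sums. -/
theorem multiset_ext_pow {M M' : Multiset ℂ}
    (h : ∀ i : ℕ, (M.map fun z => z ^ i).sum = (M'.map fun z => z ^ i).sum) : M = M' := by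
  classical
  refine Multiset.ext.2 fun z => ?_
  set S : Finset ℂ := (M + M').toFinset.erase z with hS
  set P : ℂ[X] := ∏ w ∈ S, (X - C w) with hP
  have hP0 : P.eval z ≠ 0 := by
    rw [hP, eval_prod, Finset.prod_ne_zero_iff]
    intro w hw
    rw [eval_sub, eval_X, eval_C, sub_ne_zero]
    exact (Finset.ne_of_mem_erase hw).symm
  have hPw : ∀ w ∈ M + M', w ≠ z → P.eval w = 0 := by
    intro w hw hwz
    rw [hP, eval_prod]
    refine Finset.prod_eq_zero (i := w) (Finset.mem_erase.2 ⟨hwz, Multiset.mem_toFinset.2 hw⟩) ?_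
    simp
  have h1 := sum_map_eval_eq h P
  rw [sum_map_eq_count_mul (fun w => P.eval w) z
      fun w hw => hPw w (Multiset.mem_add.2 (Or.inl hw)),
    sum_map_eq_count_mul (fun w => P.eval w) z
      fun w hw => hPw w (Multiset.mem_add.2 (Or.inr hw))] at h1
  exact_mod_cast mul_right_cancel₀ hP0 h1

section general

variable {G : Type*} [Group G] {G' : Type*} [Group G']

/-- The eigenvalue multiset is unique. -/
theorem isEig_unique {χ : G → ℂ} {g : G} {M M' : Multiset ℂ} (h : IsEig χ g M)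
    (h' : IsEig χ g M') : M = M' :=
  multiset_ext_pow fun i => by rw [← h.2 i, ← h'.2 i]

/-- `eig` is the multiset with `IsEig` if there is one. -/
theorem isEig_eig_of_exists {χ : G → ℂ} {g : G} (h : ∃ M, IsEig χ g M) : IsEig χ g (eig χ g) := by
  unfold eig
  rw [dif_pos h]
  exact h.choose_spec

theorem isEig_eig_eq {χ : G → ℂ} {g : G} {M : Multiset ℂ} (h : IsEig χ g M) : eig χ g = M :=
  isEig_unique (isEig_eig_of_exists ⟨M, h⟩) h

theorem isEig_eig' {χ : G → ℂ} {g : G} {M : Multiset ℂ} (h : IsEig χ g M) :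
    IsEig χ g (eig χ g) := isEig_eig_of_exists ⟨M, h⟩

/-- Elements of `eig χ g` are roots of unity of order dividing the order of `g`. -/
theorem pow_orderOf_of_mem_eig {χ : G → ℂ} {g : G} {z : ℂ} (hz : z ∈ eig χ g) :
    z ^ orderOf g = 1 := by
  by_cases h : ∃ M, IsEig χ g M
  · exact (isEig_eig_of_exists h).1 z hz
  · unfold eig at hz
    rw [dif_neg h] at hz
    exact absurd hz (Multiset.notMem_zero z)

theorem pow_card_of_mem_eig {χ : G → ℂ} {g : G} {z : ℂ} (hz : z ∈ eig χ g) :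
    z ^ Nat.card G = 1 := by
  obtain ⟨k, hk⟩ := orderOf_dvd_natCard g
  rw [hk, pow_mul, pow_orderOf_of_mem_eig hz, one_pow]

theorem pow_of_mem_eig {χ : G → ℂ} {g : G} {z : ℂ} (hz : z ∈ eig χ g) {n : ℕ} (hn : g ^ n = 1) :
    z ^ n = 1 := by
  obtain ⟨k, hk⟩ := orderOf_dvd_of_pow_eq_one hn
  rw [hk, pow_mul, pow_orderOf_of_mem_eig hz, one_pow]

theorem ne_zero_of_mem_eig [Finite G] {χ : G → ℂ} {g : G} {z : ℂ} (hz : z ∈ eig χ g) : z ≠ 0 := by
  rintro rfl
  have h := pow_card_of_mem_eig hz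
  rw [zero_pow Nat.card_pos.ne'] at h
  exact zero_ne_one h

theorem norm_of_mem_eig [Finite G] {χ : G → ℂ} {g : G} {z : ℂ} (hz : z ∈ eig χ g) : ‖z‖ = 1 :=
  Complex.norm_eq_one_of_pow_eq_one (pow_card_of_mem_eig hz) Nat.card_pos.ne'

/-- Every element of finite order has an eigenvalue multiset for every character. -/
theorem exists_isEig_of_isOfFinOrder {χ : G → ℂ} (hχ : IsCharacter G χ) {g : G}
    (hg : IsOfFinOrder g) : ∃ M, IsEig χ g M := by
  obtain ⟨n, ρ, rfl⟩ := hχ
  obtain ⟨s, -, h1, h2⟩ := GaloisBasic.exists_multiset_pow ρ g (orderOf_pos_iff.2 hg).ne'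
    (pow_orderOf_eq_one g)
  exact ⟨s, h1, h2⟩

theorem exists_isEig [Finite G] {χ : G → ℂ} (hχ : IsCharacter G χ) (g : G) :
    ∃ M, IsEig χ g M :=
  exists_isEig_of_isOfFinOrder hχ (isOfFinOrder_of_finite g)

/-- The characterisation of `eig`. -/
theorem eig_spec [Finite G] {χ : G → ℂ} (hχ : IsCharacter G χ) (g : G) :
    IsEig χ g (eig χ g) := isEig_eig_of_exists (exists_isEig hχ g)

/-- Power sums of `eig`. -/
theorem apply_pow_eq_sum_eig [Finite G] {χ : G → ℂ} (hχ : IsCharacter G χ) (g : G) (i : ℕ) :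
    χ (g ^ i) = ((eig χ g).map fun z => z ^ i).sum := (eig_spec hχ g).2 i

theorem apply_eq_sum_eig [Finite G] {χ : G → ℂ} (hχ : IsCharacter G χ) (g : G) :
    χ g = (eig χ g).sum := by
  have h := apply_pow_eq_sum_eig hχ g 1
  simpa using h

/-- To identify `eig χ g` for a character it suffices to have the power sums. -/
theorem eig_eq [Finite G] {χ : G → ℂ} (hχ : IsCharacter G χ) {g : G} {M : Multiset ℂ}
    (h : ∀ i : ℕ, χ (g ^ i) = (M.map fun z => z ^ i).sum) : eig χ g = M :=
  multiset_ext_pow fun i => by rw [← h i, apply_pow_eq_sum_eig hχ g i]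

/-- Equal values at the powers give equal eigenvalues. -/
theorem eig_congr [Finite G] [Finite G'] {χ : G → ℂ} {ψ : G' → ℂ} (hχ : IsCharacter G χ)
    (hψ : IsCharacter G' ψ) {g : G} {g' : G'} (h : ∀ i : ℕ, χ (g ^ i) = ψ (g' ^ i)) :
    eig χ g = eig ψ g' :=
  eig_eq hχ fun i => by rw [h i, apply_pow_eq_sum_eig hψ g' i]

theorem isEig_comp {χ : G → ℂ} (f : G' →* G) {h : G'} {M : Multiset ℂ} (hM : IsEig χ (f h) M) :
    IsEig (fun x => χ (f x)) h M := by
  refine ⟨fun z hz => ?_, fun i => ?_⟩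
  · obtain ⟨k, hk⟩ := orderOf_map_dvd f h
    rw [hk, pow_mul, hM.1 z hz, one_pow]
  · show χ (f (h ^ i)) = _
    rw [map_pow]
    exact hM.2 i

/-- Eigenvalues for the composition of a character with a homomorphism. -/
theorem eig_comp [Finite G] {χ : G → ℂ} (hχ : IsCharacter G χ) (f : G' →* G) (h : G') :
    eig (fun x => χ (f x)) h = eig χ (f h) :=
  isEig_eig_eq (isEig_comp f (eig_spec hχ (f h)))

theorem eig_comp' [Finite G] {χ : G → ℂ} (hχ : IsCharacter G χ) (f : G' →* G) (h : G') :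
    eig (χ ∘ f) h = eig χ (f h) := eig_comp hχ f h

/-- Eigenvalues for the restriction of a character. -/
theorem eig_restrict [Finite G] {χ : G → ℂ} (hχ : IsCharacter G χ) (H : Subgroup G) (h : H) :
    eig (fun x : H => χ x) h = eig χ (h : G) := eig_comp hχ H.subtype h

theorem isEig_add {χ ψ : G → ℂ} {g : G} {M N : Multiset ℂ} (h : IsEig χ g M)
    (h' : IsEig ψ g N) : IsEig (χ + ψ) g (M + N) := by
  refine ⟨fun z hz => ?_, fun i => ?_⟩
  · rcases Multiset.mem_add.1 hz with hz | hz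
    · exact h.1 z hz
    · exact h'.1 z hz
  · rw [Pi.add_apply, h.2, h'.2, Multiset.map_add, Multiset.sum_add]

/-- Eigenvalues for a sum of characters. -/
theorem eig_add [Finite G] {χ ψ : G → ℂ} (hχ : IsCharacter G χ) (hψ : IsCharacter G ψ) (g : G) :
    eig (χ + ψ) g = eig χ g + eig ψ g := isEig_eig_eq (isEig_add (eig_spec hχ g) (eig_spec hψ g))

theorem isEig_zero (g : G) : IsEig (0 : G → ℂ) g 0 :=
  ⟨fun z hz => absurd hz (Multiset.notMem_zero z), fun i => by simp⟩

theorem eig_zero (g : G) : eig (0 : G → ℂ) g = 0 := isEig_eig_eq (isEig_zero g)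

theorem isEig_sum {ι : Type*} (s : Finset ι) {χ : ι → G → ℂ} {g : G} {M : ι → Multiset ℂ}
    (h : ∀ i ∈ s, IsEig (χ i) g (M i)) : IsEig (∑ i ∈ s, χ i) g (∑ i ∈ s, M i) := by
  classical
  induction s using Finset.induction_on with
  | empty => exact isEig_zero g
  | insert a s ha ih =>
    rw [Finset.sum_insert ha, Finset.sum_insert ha]
    exact isEig_add (h a (Finset.mem_insert_self a s))
      (ih fun i hi => h i (Finset.mem_insert_of_mem hi))

/-- Eigenvalues for a finite sum of characters. -/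
theorem eig_sum [Finite G] {ι : Type*} (s : Finset ι) {χ : ι → G → ℂ}
    (h : ∀ i ∈ s, IsCharacter G (χ i)) (g : G) : eig (∑ i ∈ s, χ i) g = ∑ i ∈ s, eig (χ i) g :=
  isEig_eig_eq (isEig_sum s fun i hi => eig_spec (h i hi) g)

theorem eig_nsmul [Finite G] (n : ℕ) {χ : G → ℂ} (h : IsCharacter G χ) (g : G) :
    eig (n • χ) g = n • eig χ g := by
  have h1 := eig_sum (Finset.range n) (χ := fun _ => χ) (fun _ _ => h) g
  simpa using h1

theorem isEig_linear (lam : G →* ℂˣ) (g : G) :
    IsEig (fun x => (lam x : ℂ)) g {(lam g : ℂ)} := by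
  refine ⟨fun z hz => ?_, fun i => ?_⟩
  · rw [Multiset.mem_singleton.1 hz, ← Units.val_pow_eq_pow_val, ← map_pow, pow_orderOf_eq_one,
      map_one, Units.val_one]
  · simp

/-- Eigenvalues for a linear character. -/
theorem eig_linear (lam : G →* ℂˣ) (g : G) : eig (fun x => (lam x : ℂ)) g = {(lam g : ℂ)} :=
  isEig_eig_eq (isEig_linear lam g)

theorem isEig_pow {χ : G → ℂ} {g : G} {M : Multiset ℂ} (h : IsEig χ g M) (k : ℕ) :
    IsEig χ (g ^ k) (M.map (· ^ k)) := by
  refine ⟨fun z hz => ?_, fun i => ?_⟩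
  · obtain ⟨w, hw, rfl⟩ := Multiset.mem_map.1 hz
    have h1 : g ^ (k * orderOf (g ^ k)) = 1 := by rw [pow_mul, pow_orderOf_eq_one]
    obtain ⟨m, hm⟩ := orderOf_dvd_of_pow_eq_one h1
    rw [← pow_mul, hm, pow_mul, h.1 w hw, one_pow]
  · rw [← pow_mul, h.2, Multiset.map_map]
    simp only [Function.comp_def, pow_mul]

/-- Eigenvalues of powers. -/
theorem eig_pow [Finite G] {χ : G → ℂ} (hχ : IsCharacter G χ) (g : G) (k : ℕ) :
    eig χ (g ^ k) = (eig χ g).map (· ^ k) := isEig_eig_eq (isEig_pow (eig_spec hχ g) k)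

theorem isEig_card {χ : G → ℂ} {g : G} {M : Multiset ℂ} (h : IsEig χ g M) :
    (M.card : ℂ) = χ 1 := by
  have h1 := h.2 0
  rw [pow_zero] at h1
  rw [h1]
  simp

/-- The number of eigenvalues is the degree. -/
theorem card_eig [Finite G] {χ : G → ℂ} (hχ : IsCharacter G χ) (g : G) :
    ((eig χ g).card : ℂ) = χ 1 := isEig_card (eig_spec hχ g)

theorem card_eig_eq [Finite G] {χ : G → ℂ} (hχ : IsCharacter G χ) (g h : G) :
    (eig χ g).card = (eig χ h).card := by
  exact_mod_cast (card_eig hχ g).trans (card_eig hχ h).symm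

theorem isEig_map_pow_eq {χ : G → ℂ} {g : G} {M : Multiset ℂ} (h : IsEig χ g M) {q : ℕ}
    (hq : ∀ h : G, χ (h ^ q) = χ h) : M.map (· ^ q) = M := by
  refine multiset_ext_pow fun i => ?_
  rw [← h.2 i, ← hq (g ^ i), ← pow_mul, h.2 (i * q), Multiset.map_map]
  simp only [Function.comp_def, ← pow_mul, mul_comm]

/-- Frobenius invariance of the eigenvalues. -/
theorem eig_map_pow [Finite G] {χ : G → ℂ} (hχ : IsCharacter G χ) {q : ℕ}
    (hq : ∀ h : G, χ (h ^ q) = χ h) (g : G) : (eig χ g).map (· ^ q) = eig χ g :=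
  isEig_map_pow_eq (eig_spec hχ g) hq

theorem isEig_replicate_one {χ : G → ℂ} {M : Multiset ℂ} (h : IsEig χ (1 : G) M) :
    M = Multiset.replicate M.card 1 :=
  Multiset.eq_replicate_card.2 fun z hz => by simpa using h.1 z hz

/-- Eigenvalues of the neutral element. -/
theorem eig_one [Finite G] {χ : G → ℂ} (hχ : IsCharacter G χ) {n : ℕ} (hn : χ 1 = n) :
    eig χ 1 = Multiset.replicate n 1 := by
  have h1 := isEig_replicate_one (eig_spec hχ 1)
  have h2 : (eig χ (1 : G)).card = n := by exact_mod_cast (card_eig hχ 1).trans hn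
  rwa [h2] at h1

theorem conj_pow_aux (x g : G) (i : ℕ) : (x * g * x⁻¹) ^ i = x * g ^ i * x⁻¹ := conj_pow

theorem isEig_conj {χ : G → ℂ} (hχ : IsClassFunction G χ) {g : G} {M : Multiset ℂ}
    (h : IsEig χ g M) (x : G) : IsEig χ (x * g * x⁻¹) M := by
  refine ⟨fun z hz => ?_, fun i => ?_⟩
  · have h1 : orderOf (x * g * x⁻¹) = orderOf g := by
      have := orderOf_injective (MulAut.conj x).toMonoidHom (MulAut.conj x).injective g
      simpa using this
    rw [h1, h.1 z hz]
  · rw [conj_pow_aux, hχ, h.2]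

/-- Conjugate elements have the same eigenvalues. -/
theorem eig_conj [Finite G] {χ : G → ℂ} (hχ : IsCharacter G χ) (g x : G) :
    eig χ (x * g * x⁻¹) = eig χ g :=
  isEig_eig_eq (isEig_conj (Core.isCharacter_isClassFunction hχ) (eig_spec hχ g) x)

theorem isEig_inv {χ : G → ℂ} {g : G} (hg : IsOfFinOrder g) {M : Multiset ℂ} (h : IsEig χ g M) :
    IsEig χ g⁻¹ (M.map (·⁻¹)) := by
  have h0 : orderOf g ≠ 0 := (orderOf_pos_iff.2 hg).ne'
  have h1 := isEig_pow h (orderOf g - 1)
  have h2 : g ^ (orderOf g - 1) = g⁻¹ := by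
    rw [eq_inv_iff_mul_eq_one, ← pow_succ, Nat.sub_add_cancel (Nat.one_le_iff_ne_zero.2 h0),
      pow_orderOf_eq_one]
  have h3 : M.map (· ^ (orderOf g - 1)) = M.map (·⁻¹) := by
    refine Multiset.map_congr rfl fun z hz => ?_
    have hz1 := h.1 z hz
    refine eq_inv_of_mul_eq_one_left ?_
    rw [← pow_succ, Nat.sub_add_cancel (Nat.one_le_iff_ne_zero.2 h0), hz1]
  rwa [h2, h3] at h1

theorem eig_inv [Finite G] {χ : G → ℂ} (hχ : IsCharacter G χ) (g : G) :
    eig χ g⁻¹ = (eig χ g).map (·⁻¹) :=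
  isEig_eig_eq (isEig_inv (isOfFinOrder_of_finite g) (eig_spec hχ g))

/-! ### `kap` -/

theorem kap_def (F : ℂ → ℂ) (χ : G → ℂ) (g : G) : kap F χ g = ((eig χ g).map F).prod := rfl

theorem kap_eq [Finite G] (F : ℂ → ℂ) {χ : G → ℂ} (hχ : IsCharacter G χ) {g : G} {M : Multiset ℂ}
    (h : ∀ i : ℕ, χ (g ^ i) = (M.map fun z => z ^ i).sum) : kap F χ g = (M.map F).prod := by
  rw [kap_def, eig_eq hχ h]

theorem kap_add [Finite G] (F : ℂ → ℂ) {χ ψ : G → ℂ} (hχ : IsCharacter G χ)
    (hψ : IsCharacter G ψ) (g : G) : kap F (χ + ψ) g = kap F χ g * kap F ψ g := by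
  rw [kap_def, eig_add hχ hψ, Multiset.map_add, Multiset.prod_add, kap_def, kap_def]

theorem kap_zero (F : ℂ → ℂ) (g : G) : kap F (0 : G → ℂ) g = 1 := by
  rw [kap_def, eig_zero, Multiset.map_zero, Multiset.prod_zero]

theorem kap_sum [Finite G] (F : ℂ → ℂ) {ι : Type*} (s : Finset ι) {χ : ι → G → ℂ}
    (h : ∀ i ∈ s, IsCharacter G (χ i)) (g : G) :
    kap F (∑ i ∈ s, χ i) g = ∏ i ∈ s, kap F (χ i) g := by
  classical
  induction s using Finset.induction_on with
  | empty => rw [Finset.sum_empty, Finset.prod_empty, kap_zero]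
  | insert a s ha ih =>
    rw [Finset.sum_insert ha, Finset.prod_insert ha,
      kap_add F (h a (Finset.mem_insert_self a s))
        (Core.isCharacter_sum s fun i hi => h i (Finset.mem_insert_of_mem hi)),
      ih fun i hi => h i (Finset.mem_insert_of_mem hi)]

theorem kap_nsmul [Finite G] (F : ℂ → ℂ) (n : ℕ) {χ : G → ℂ} (h : IsCharacter G χ) (g : G) :
    kap F (n • χ) g = kap F χ g ^ n := by
  rw [kap_def, eig_nsmul n h, Multiset.map_nsmul, Multiset.prod_nsmul, kap_def]

theorem kap_comp [Finite G] (F : ℂ → ℂ) {χ : G → ℂ} (hχ : IsCharacter G χ) (f : G' →* G)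
    (h : G') : kap F (fun x => χ (f x)) h = kap F χ (f h) := by
  rw [kap_def, eig_comp hχ, kap_def]

theorem kap_comp' [Finite G] (F : ℂ → ℂ) {χ : G → ℂ} (hχ : IsCharacter G χ) (f : G' →* G)
    (h : G') : kap F (χ ∘ f) h = kap F χ (f h) := kap_comp F hχ f h

theorem kap_restrict [Finite G] (F : ℂ → ℂ) {χ : G → ℂ} (hχ : IsCharacter G χ)
    (H : Subgroup G) (h : H) : kap F (fun x : H => χ x) h = kap F χ (h : G) := by
  rw [kap_def, eig_restrict hχ, kap_def]

/-- `kap F χ` is a class function. -/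
theorem kap_conj [Finite G] (F : ℂ → ℂ) {χ : G → ℂ} (hχ : IsCharacter G χ) (g x : G) :
    kap F χ (x * g * x⁻¹) = kap F χ g := by
  rw [kap_def, eig_conj hχ, kap_def]

theorem isClassFunction_kap [Finite G] (F : ℂ → ℂ) {χ : G → ℂ} (hχ : IsCharacter G χ) :
    IsClassFunction G (kap F χ) := fun g x => kap_conj F hχ g x

theorem kap_linear (F : ℂ → ℂ) (lam : G →* ℂˣ) (g : G) :
    kap F (fun x => (lam x : ℂ)) g = F (lam g) := by
  rw [kap_def, eig_linear, Multiset.map_singleton, Multiset.prod_singleton]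

theorem kap_one [Finite G] (F : ℂ → ℂ) {χ : G → ℂ} (hχ : IsCharacter G χ) {n : ℕ}
    (hn : χ 1 = n) : kap F χ 1 = F 1 ^ n := by
  rw [kap_def, eig_one hχ hn, Multiset.map_replicate, Multiset.prod_replicate]

theorem kap_congr {F F' : ℂ → ℂ} {χ : G → ℂ} {g : G} (h : ∀ z ∈ eig χ g, F z = F' z) :
    kap F χ g = kap F' χ g := by
  rw [kap_def, kap_def, Multiset.map_congr rfl h]

theorem kap_mul (F F' : ℂ → ℂ) (χ : G → ℂ) (g : G) :
    kap (fun z => F z * F' z) χ g = kap F χ g * kap F' χ g := by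
  rw [kap_def, kap_def, kap_def, Multiset.prod_map_mul]

theorem kap_prod {ι : Type*} (s : Finset ι) (F : ι → ℂ → ℂ) (χ : G → ℂ) (g : G) :
    kap (fun z => ∏ i ∈ s, F i z) χ g = ∏ i ∈ s, kap (F i) χ g := by
  classical
  induction s using Finset.induction_on with
  | empty => simp [kap_def]
  | insert a s ha ih =>
    simp only [Finset.prod_insert ha]
    rw [kap_mul, ih]

/-- The twist of a character by a power map prime to the order of the group: eigenvalues. -/
theorem eig_power_twist [Finite G] {χ : G → ℂ} (hχ : IsCharacter G χ) {q : ℕ} {ψ : G → ℂ}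
    (hψ : ∀ g, ψ g = χ (g ^ q)) (g : G) : eig ψ g = (eig χ g).map (· ^ q) := by
  refine isEig_eig_eq ⟨fun z hz => ?_, fun i => ?_⟩
  · obtain ⟨w, hw, rfl⟩ := Multiset.mem_map.1 hz
    rw [← pow_mul, mul_comm, pow_mul, (eig_spec hχ g).1 w hw, one_pow]
  · rw [hψ, ← pow_mul, apply_pow_eq_sum_eig hχ, Multiset.map_map]
    simp only [Function.comp_def, ← pow_mul, mul_comm]

theorem kap_power_twist [Finite G] (F : ℂ → ℂ) {χ : G → ℂ} (hχ : IsCharacter G χ) {q : ℕ}
    {ψ : G → ℂ} (hψ : ∀ g, ψ g = χ (g ^ q)) (g : G) :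
    kap F ψ g = kap (fun z => F (z ^ q)) χ g := by
  rw [kap_def, eig_power_twist hχ hψ, Multiset.map_map, kap_def]
  rfl

end general

end Cfsg.Agent.H500.KGV
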